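import Mathlib
import Cfsg.Agent.S0215
import Cfsg.Agent.S1180
import Cfsg.Agent.H301.SY.Spor
import Cfsg.Agent.H959.Rad3.Iface

/-!
# S3854, elements of prime order `p ≥ 5`: the interface of the rows (helper959)

`K` a finite non-abelian simple group, `x : MulAut K` of prime order `p ≥ 5` with `RC x` (`Cfsg.Agent.H459.Rad`).

* `TE x` (`x : K`) : `⟨x, y⟩` is solvable for all `2`-elements `y` of `K`; `T2 x` (`x : MulAut K`) : the same;
* `NoTE p K` : no `x : K` of order `p` has `RE x` and `TE x`; `NoT p K` : no `x : MulAut K` of order `p` has `RC x` and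
  `T2 x` (**the goal for each simple group**); `NoT.of_noTE`, `NoTE.congr`, `NoT.congr`;
* `NoRE p K` : no `x : K` of order `p` has `RE x`; `NoRE.noTE`;
* criteria: `NoTE.of_lw`, `NoTE.of_sub`, `NoTE.of_sylow`, `NoTE.of_even` (only `RE` is used);
  `NoTE.of_m0` (`M0 x`);
  `NoTE.of_exp` (a `2`-element of order not dividing `p - 1`);
  `false_of_not_fix2` (the V4 trick: `x` normalises no non-trivial `2`-subgroup), `NoTE.of_order_two`, `NoTE.of_num`;
  `false_of_crow_odd` (groups of Lie type of odd characteristic).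
-/

set_option autoImplicit false
set_option linter.unusedSectionVars false

namespace Cfsg.Agent.H959.T5

open Cfsg Subgroup Cfsg.Agent.H459.Rad Cfsg.Agent.H459.Iface Cfsg.Agent.SignalizersComponents.ComponentExists
open Cfsg.Agent.H301.SY Cfsg.Agent.H959.Rad3

section Defs

variable {K : Type*} [Group K]

/-- `⟨x, y⟩` is solvable for all `2`-elements `y` -/
def TE (x : K) : Prop := ∀ y : K, (∃ k : ℕ, y ^ 2 ^ k = 1) → Group.IsSolvable ↥(closure ({x, y} : Set K))

/-- no element `x` of order `p` of `K` satisfies `RE x` and `TE x` -/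
def NoTE (p : ℕ) (K : Type*) [Group K] : Prop := ∀ x : K, orderOf x = p → RE x → TE x → False

/-- no element `x` of order `p` of `K` satisfies `RE x` -/
def NoRE (p : ℕ) (K : Type*) [Group K] : Prop := ∀ x : K, orderOf x = p → RE x → False

theorem NoRE.noTE {p : ℕ} (h : NoRE p K) : NoTE p K := fun x hx hR _ => h x hx hR

/-- no automorphism `x` of order `p` of `K` satisfies `RC x` and `T2 x` -/
def NoT (p : ℕ) (K : Type*) [Group K] : Prop := ∀ x : MulAut K, orderOf x = p → RC x → T2 x → False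

end Defs

section Congr

variable {K L : Type*} [Group K] [Group L]

theorem TE.map (e : K ≃* L) {x : K} (h : TE x) : TE (e x) := by
  rintro y ⟨k, hk⟩
  have h1 : (closure ({x, e.symm y} : Set K)).map e.toMonoidHom = closure ({e x, y} : Set L) := by
    rw [MonoidHom.map_closure, Set.image_pair]
    simp
  rw [← h1]
  exact isSolvable_map (h _ ⟨k, by rw [← map_pow, hk, map_one]⟩) _

/-- the tests are invariant under conjugation -/
theorem TE.conj {x : K} (h : TE x) (g : K) : TE (g * x * g⁻¹) := h.map (MulAut.conj g)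

variable [Finite K] [Finite L]

theorem NoTE.congr {p : ℕ} (e : K ≃* L) (h : NoTE p L) : NoTE p K := fun x hx hR hT =>
  h (e x) (by rw [← hx]; exact orderOf_injective e.toMonoidHom e.injective x) (hR.map e) (hT.map e)

theorem NoT.congr {p : ℕ} (e : K ≃* L) (h : NoT p L) : NoT p K := fun x hx hR hT =>
  h (Cfsg.Agent.H459.Rad.tr e x) (by rw [orderOf_tr, hx]) (hR.tr e) (hT.tr e)

end Congr

variable {K : Type*} [Group K] [Finite K] {p : ℕ} [hp : Fact p.Prime]

theorem TE.of_t2 (hZ : center K = ⊥) {x : K} (h : T2 (MulAut.conj x)) : TE x := fun _ hy => h.solvable hZ hy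

/-- from the elements of `K` to the automorphisms -/
theorem NoT.of_noTE [IsSimpleGroup K] (hna : ¬ IsMulCommutative K)
    (hinn : ∀ x : MulAut K, orderOf x = p → ∃ g, x = MulAut.conj g) (h : NoTE p K) : NoT p K := by
  intro x hx hR hY
  obtain ⟨g, rfl⟩ := hinn x hx
  have hZ := center_eq_bot hna
  refine h g ?_ (RE.of_rc hR) (TE.of_t2 hZ hY)
  rw [← hx]
  exact (orderOf_injective (MulAut.conj : K →* MulAut K) (conj_injective hZ) g).symm

/-! ### Criteria which only use `RE` -/

/-- a proper subgroup `L` of order divisible by `p`, with `p ∤ |Rad L|`, Sylow `p`-subgroups cyclic -/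
theorem NoTE.of_lw (hcyc : ∀ P : Sylow p K, IsCyclic (P : Subgroup K)) (h : Lw p K) : NoTE p K :=
  fun _ hx hR _ => h.false hx hR hcyc

/-- every element of order `p` is conjugate into a proper subgroup `L` with `p ∤ |Rad L|` -/
theorem NoTE.of_sub (h : ∀ x : K, orderOf x = p → ∃ L : Subgroup K, L ≠ ⊤ ∧ x ∈ L ∧ ¬ p ∣ Nat.card (radIn L)) :
    NoTE p K := by
  intro x hx hR _
  obtain ⟨L, hL, hxL, hr⟩ := h x hx
  have h1 := hR L hL hxL
  apply hr
  have h2 : orderOf (⟨x, h1⟩ : radIn L) = p := by rw [Subgroup.orderOf_mk]; exact hx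
  rw [← h2]
  exact orderOf_dvd_natCard _

/-- if `L` contains a Sylow `p`-subgroup then every element of order `p` is conjugate into `L` -/
theorem NoTE.of_sylow {L : Subgroup K} (hL : L ≠ ⊤) (P : Sylow p K) (hP : (P : Subgroup K) ≤ L)
    (hr : ¬ p ∣ Nat.card (radIn L)) : NoTE p K := by
  refine NoTE.of_sub fun x hx => ?_
  have hxp : IsPGroup p (zpowers x) := IsPGroup.of_card (n := 1) (by rw [Nat.card_zpowers, hx, pow_one])
  obtain ⟨Q, hQ⟩ := hxp.exists_le_sylow
  obtain ⟨g, hg⟩ := MulAction.exists_smul_eq K P Q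
  refine ⟨L.map (MulAut.conj g).toMonoidHom, ?_, ?_, ?_⟩
  · intro h1
    apply hL
    rw [eq_top_iff]
    intro y _
    have h2 : MulAut.conj g y ∈ L.map (MulAut.conj g).toMonoidHom := by rw [h1]; exact mem_top _
    obtain ⟨z, hz, h3⟩ := h2
    have h4 : z = y := (MulAut.conj g).injective h3
    rwa [← h4]
  · have h1 : x ∈ (Q : Subgroup K) := hQ (mem_zpowers x)
    rw [← hg, Sylow.coe_subgroup_smul] at h1
    obtain ⟨y, hy, h2⟩ := h1
    exact ⟨y, hP hy, h2⟩
  · rw [radIn_conj, Subgroup.card_map_of_injective (MulAut.conj g).injective]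
    exact hr

/-- every element of order `p` commutes with an element `u ≠ 1` with `p ∤ |Rad C(u)|` -/
theorem NoTE.of_even (hZ : center K = ⊥) (h : ∀ x : K, orderOf x = p → ∃ u : K, u ≠ 1 ∧ u * x = x * u ∧
    ¬ p ∣ Nat.card (radIn (centralizer ({u} : Set K)))) : NoTE p K := by
  refine NoTE.of_sub fun x hx => ?_
  obtain ⟨u, hu, hux, hr⟩ := h x hx
  refine ⟨centralizer ({u} : Set K), ?_, ?_, hr⟩
  · intro h1
    apply hu
    have h2 : u ∈ center K := by
      rw [mem_center_iff]
      intro g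
      exact (mem_centralizer_iff.1 (show g ∈ centralizer ({u} : Set K) by rw [h1]; exact mem_top _) u rfl).symm
    rwa [hZ, mem_bot] at h2
  · rw [mem_centralizer_iff]
    intro y hy
    rw [Set.mem_singleton_iff.1 hy, hux]

/-! ### The criterion `M0` -/

/-- if `M0 x` then the `2`-elements normalise `⟨x⟩` -/
theorem m0_false [IsSimpleGroup K] (hna : ¬ IsMulCommutative K) (h2 : 2 ∣ Nat.card K) {x : K}
    (hx : orderOf x = p) (hT : TE x) (h0 : M0 x) : False := by
  have hx1 : x ≠ 1 := by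
    rintro rfl
    rw [orderOf_one] at hx
    exact hp.out.one_lt.ne hx
  have : Fact (Nat.Prime 2) := ⟨Nat.prime_two⟩
  obtain ⟨y, hy⟩ := exists_prime_orderOf_dvd_card' 2 h2
  have hy1 : y ≠ 1 := by
    rintro rfl
    rw [orderOf_one] at hy
    omega
  have h1 : ∀ g : K, (g * y * g⁻¹) * x * (g * y * g⁻¹)⁻¹ ∈ zpowers x := by
    intro g
    have h3 : (g * y * g⁻¹) ^ 2 ^ 1 = 1 := by
      rw [pow_one, conj_pow, ← hy, pow_orderOf_eq_one, mul_one, mul_inv_cancel]
    exact h0 _ (hT _ ⟨1, h3⟩) (subset_closure (by simp)) _ (subset_closure (by simp))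
  have hne : normalClosure ({y} : Set K) = ⊤ := by
    rcases (inferInstance : (normalClosure ({y} : Set K)).Normal).eq_bot_or_eq_top with h2 | h2
    · exfalso
      apply hy1
      have h3 : y ∈ normalClosure ({y} : Set K) := subset_normalClosure rfl
      rwa [h2, mem_bot] at h3
    · exact h2
  have hle : normalClosure ({y} : Set K) ≤ normalizer ((zpowers x : Subgroup K) : Set K) := by
    rw [normalClosure, closure_le]
    intro z hz
    obtain ⟨w, hw, h3⟩ := Group.mem_conjugatesOfSet_iff.1 hz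
    rw [Set.mem_singleton_iff.1 hw] at h3
    obtain ⟨g, hg⟩ := isConj_iff.1 h3
    rw [← hg, SetLike.mem_coe, Subgroup.mem_normalizer_iff_map_conj_eq]
    refine Subgroup.eq_of_le_of_card_ge ?_ (le_of_eq (Subgroup.card_map_of_injective
      (K := zpowers x) (MulAut.conj (g * y * g⁻¹)).injective).symm)
    rintro _ ⟨a, ha, rfl⟩
    exact mem_normalizer_zpowers (h1 g) a ha
  rw [hne] at hle
  have hnorm : (zpowers x).Normal := Subgroup.normalizer_eq_top_iff.1 (top_le_iff.1 hle)
  rcases hnorm.eq_bot_or_eq_top with h2 | h2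
  · exact hx1 (zpowers_eq_bot.1 h2)
  · apply hna
    refine ⟨⟨fun a b => ?_⟩⟩
    obtain ⟨i, hi⟩ := mem_zpowers_iff.1 (show a ∈ zpowers x by rw [h2]; exact mem_top _)
    obtain ⟨j, hj⟩ := mem_zpowers_iff.1 (show b ∈ zpowers x by rw [h2]; exact mem_top _)
    rw [← hi, ← hj, ← zpow_add, ← zpow_add, add_comm]

/-- `M0` for all `x` -/
theorem NoTE.of_m0 [IsSimpleGroup K] (hna : ¬ IsMulCommutative K) (h2 : 2 ∣ Nat.card K)
    (h : ∀ x : K, orderOf x = p → RE x → TE x → M0 x) : NoTE p K :=
  fun x hx hR hT => m0_false hna h2 hx hT (h x hx hR hT)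

/-! ### The block lemma: `2`-elements of large order -/

/-- **the criterion of the exponent** : a `2`-element whose order does not divide `p - 1` -/
theorem NoTE.of_exp (hcyc : ∀ P : Sylow p K, IsCyclic (P : Subgroup K)) (hb : Blk p K) (hp2 : p ≠ 2) {y : K} {k : ℕ}
    (hy : y ^ 2 ^ k = 1) (hy1 : y ^ (p - 1) ≠ 1) : NoTE p K := by
  intro x hx _ hT
  apply hy1
  refine hb hcyc x y hx ?_ fun g => hT _ ⟨k, by rw [conj_pow, hy, mul_one, mul_inv_cancel]⟩
  refine Nat.Coprime.coprime_dvd_left (orderOf_dvd_of_pow_eq_one hy) ?_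
  exact Nat.Coprime.pow_left k ((Nat.coprime_primes Nat.prime_two hp.out).2 (Ne.symm hp2))

theorem NoTE.of_orderOf (hcyc : ∀ P : Sylow p K, IsCyclic (P : Subgroup K)) (hb : Blk p K) (hp2 : p ≠ 2) {y : K}
    {k : ℕ} (hy : orderOf y = 2 ^ k) (h : ¬ 2 ^ k ∣ p - 1) : NoTE p K := by
  refine NoTE.of_exp (y := y) (k := k) hcyc hb hp2 (by rw [← hy, pow_orderOf_eq_one]) fun h1 => h ?_
  rw [← hy]
  exact orderOf_dvd_of_pow_eq_one h1

end Cfsg.Agent.H959.T5
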