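import Mathlib
import Cfsg.Agent.H509.CycBlock
import Cfsg.Agent.H959.T5.Base

/-!
# The V4 trick (helper959)

`K` a finite non-abelian simple group with cyclic Sylow `p`-subgroups, `x` of order `p` generates a solvable group with
every involution: then `x` normalises a non-trivial `2`-subgroup (`false_of_not_fix2`).
-/

set_option autoImplicit false
set_option linter.unusedSectionVars false

namespace Cfsg.Agent.H959.T5

open Cfsg Subgroup Cfsg.Agent.H459.Rad Cfsg.Agent.H459.Iface Cfsg.Agent.SignalizersComponents.ComponentExists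
open Cfsg.Agent.H301.SY Cfsg.Agent.H959.Rad3

variable {K : Type*} [Group K] [Finite K] {p : ℕ} [hp : Fact p.Prime]

/-- `x` normalises no non-trivial `2`-subgroup: the `p'`-subgroups normalised by `x` have odd order -/
theorem odd_of_not_fix2 {x : K} (hx : orderOf x = p) (hF : ¬ FixR 2 (MulAut.conj x)) {N : Subgroup K}
    (hN : ∀ a ∈ N, x * a * x⁻¹ ∈ N) (hpN : ¬ p ∣ Nat.card N) : Odd (Nat.card N) := by
  have h2 : Fact (Nat.Prime 2) := ⟨Nat.prime_two⟩
  obtain ⟨S, hSN, hS, hSc, hSx⟩ := exists_sylow_in (by rw [← hx, pow_orderOf_eq_one]) hN hpN Nat.prime_two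
  have h0 : S = ⊥ := by
    by_contra h0
    exact hF ⟨S, h0, hS, hSx⟩
  rw [h0, card_bot] at hSc
  rw [← Nat.not_even_iff_odd, even_iff_two_dvd]
  intro h
  have h1 := Nat.prime_two.factorization_pos_of_dvd Nat.card_pos.ne' h
  have h3 : 2 ^ 1 ≤ 2 ^ (Nat.card N).factorization 2 := Nat.pow_le_pow_right (by norm_num) h1
  omega

/-- a `2`-element which centralises `x` modulo a normal `p'`-subgroup of a group containing `x` is trivial -/
theorem eq_one_of_core {x : K} (hx : orderOf x = p) (hp2 : p ≠ 2) (hF : ¬ FixR 2 (MulAut.conj x)) {L : Subgroup K}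
    (hxL : x ∈ L) {v : L} {k : ℕ} (hv : v ^ 2 ^ k = 1)
    (hc : v⁻¹ * ((⟨x, hxL⟩ : L) * v * (⟨x, hxL⟩ : L)⁻¹) ∈ pPrimeCore p L) : v = 1 := by
  have hvc : (orderOf v).Coprime p := by
    refine Nat.Coprime.coprime_dvd_left (orderOf_dvd_of_pow_eq_one hv) ?_
    exact Nat.Coprime.pow_left k ((Nat.coprime_primes Nat.prime_two hp.out).2 (Ne.symm hp2))
  obtain ⟨M, hM, hvM, hxM⟩ := Cfsg.Agent.H509.CycBlock.exists_core (G := L) hvc hc
  have hM' : Odd (Nat.card (M.map L.subtype)) := by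
    refine odd_of_not_fix2 hx hF ?_ ?_
    · rintro _ ⟨a, ha, rfl⟩
      exact ⟨⟨x, hxL⟩ * a * (⟨x, hxL⟩ : L)⁻¹, (mem_normalizer_iff.1 hxM a).1 ha, rfl⟩
    · rw [Subgroup.card_map_of_injective L.subtype_injective]
      exact (Nat.Prime.coprime_iff_not_dvd hp.out).1 hM.symm
  rw [Subgroup.card_map_of_injective L.subtype_injective] at hM'
  have h1 : orderOf v ∣ Nat.card M := by
    have : orderOf (⟨v, hvM⟩ : M) ∣ Nat.card M := orderOf_dvd_natCard _
    rwa [Subgroup.orderOf_mk] at this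
  have h2 : (orderOf v).Coprime (2 ^ k) := Nat.Coprime.pow_right k ((Nat.coprime_two_right).2 (hM'.of_dvd_nat h1))
  have h3 : orderOf v ∣ 1 := by
    rw [← h2]
    exact Nat.dvd_gcd dvd_rfl (orderOf_dvd_of_pow_eq_one hv)
  exact orderOf_eq_one_iff.1 (Nat.dvd_one.1 h3)

/-- **The V4 trick.** -/
theorem vfour [IsSimpleGroup K] (hna : ¬ IsMulCommutative K) (h2K : 2 ∣ Nat.card K) (hp2 : p ≠ 2)
    (hcyc : ∀ P : Sylow p K, IsCyclic (P : Subgroup K)) {x : K} (hx : orderOf x = p)
    (hF : ¬ FixR 2 (MulAut.conj x))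
    (hT : ∀ y : K, y * y = 1 → Group.IsSolvable ↥(closure ({x, y} : Set K))) : False := by
  classical
  have h2 : Fact (Nat.Prime 2) := ⟨Nat.prime_two⟩
  have hC : Cfsg.Agent.H29.CyclicPairs.Cyc p K := hcyc
  -- solvable subgroups which contain `x`
  have key : ∀ (L : Subgroup K) (hL : Group.IsSolvable L) (hxL : x ∈ L) (u : K) (hu : u ∈ L),
      ∃ k : L, k ∈ pPrimeCore p L ∧ ∃ i : ℤ, ((k : K) * u) * x * ((k : K) * u)⁻¹ = x ^ i := by
    intro L hL hxL u hu
    have hLs : IsPSolvable p L := Lib.PSolvable.IsPSolvable_of_solvable p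
    obtain ⟨k, hk, i, hi⟩ := Cfsg.Agent.H509.CycBlock.exists_normalizing (G := L)
      (hC.of_injective L.subtype L.subtype_injective) hLs (x := ⟨x, hxL⟩) (by rw [Subgroup.orderOf_mk]; exact hx)
      ⟨u, hu⟩
    exact ⟨k, hk, i, congrArg Subtype.val hi⟩
  have hodd : ∀ (L : Subgroup K), x ∈ L → Odd (Nat.card (pPrimeCore p L)) := by
    intro L hxL
    have h1 : Odd (Nat.card ((pPrimeCore p L).map L.subtype)) := by
      refine odd_of_not_fix2 hx hF ?_ ?_
      · rintro _ ⟨a, ha, rfl⟩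
        exact ⟨⟨x, hxL⟩ * a * (⟨x, hxL⟩ : L)⁻¹, (Lib.Cores.pPrimeCore_normal p).conj_mem a ha _, rfl⟩
      · rw [Subgroup.card_map_of_injective L.subtype_injective]
        exact (Nat.Prime.coprime_iff_not_dvd hp.out).1 (Lib.Cores.pPrimeCore_coprime (G := L) p).symm
    rwa [Subgroup.card_map_of_injective L.subtype_injective] at h1
  -- an involution
  obtain ⟨y, hy⟩ := exists_prime_orderOf_dvd_card' 2 h2K
  have hyy : y * y = 1 := by rw [← pow_two, ← hy, pow_orderOf_eq_one]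
  have hy1 : y ≠ 1 := by
    rintro rfl
    rw [orderOf_one] at hy
    omega
  -- an involution `t` which normalises `⟨x⟩`
  obtain ⟨t, htt, ht1, i, hti⟩ : ∃ t : K, t * t = 1 ∧ t ≠ 1 ∧ ∃ i : ℤ, t * x * t⁻¹ = x ^ i := by
    set H : Subgroup K := closure ({x, y} : Set K) with hH
    have hxH : x ∈ H := subset_closure (by simp)
    have hyH : y ∈ H := subset_closure (by simp)
    obtain ⟨k, hk, i, hi⟩ := key H (hT y hyy) hxH y hyH
    have hNn : (pPrimeCore p H).Normal := Lib.Cores.pPrimeCore_normal p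
    obtain ⟨m, hm⟩ := hodd H hxH
    set π := QuotientGroup.mk' (pPrimeCore p H) with hπ
    set u : H := k * ⟨y, hyH⟩ with hu
    have hπu : π u = π ⟨y, hyH⟩ := by
      have : π k = 1 := (QuotientGroup.eq_one_iff k).2 hk
      rw [hu, map_mul, this, one_mul]
    have hyy' : (⟨y, hyH⟩ : H) ^ 2 = 1 := Subtype.ext (by rw [pow_two]; exact hyy)
    have hu2 : u ^ 2 ∈ pPrimeCore p H := by
      rw [← QuotientGroup.eq_one_iff]
      have : π (u ^ 2) = 1 := by rw [map_pow, hπu, ← map_pow, hyy', map_one]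
      exact this
    refine ⟨((u ^ Nat.card (pPrimeCore p H) : H) : K), ?_, ?_, i ^ Nat.card (pPrimeCore p H), ?_⟩
    · have h1 : (u ^ Nat.card (pPrimeCore p H)) ^ 2 = 1 := by
        rw [← pow_mul, mul_comm, pow_mul]
        have h3 : orderOf (u ^ 2) ∣ Nat.card (pPrimeCore p H) := Subgroup.orderOf_dvd_natCard _ hu2
        exact orderOf_dvd_iff_pow_eq_one.1 h3
      rw [pow_two] at h1
      exact congrArg Subtype.val h1
    · intro h1
      have h3 : u ^ Nat.card (pPrimeCore p H) = 1 := Subtype.ext h1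
      have h4 : π ⟨y, hyH⟩ = 1 := by
        have h5 : π (u ^ Nat.card (pPrimeCore p H)) = π ⟨y, hyH⟩ := by
          rw [map_pow, hπu, hm, pow_succ, pow_mul, ← map_pow, hyy', map_one, one_pow, one_mul]
        rw [← h5, h3, map_one]
      have h5 : (⟨y, hyH⟩ : H) ∈ pPrimeCore p H := (QuotientGroup.eq_one_iff _).1 h4
      have h6 := Subgroup.orderOf_dvd_natCard _ h5
      rw [Subgroup.orderOf_mk, hy, hm] at h6
      omega
    · have h1 : ∀ n : ℕ, (u : K) ^ n * x * ((u : K) ^ n)⁻¹ = x ^ (i ^ n) := by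
        intro n
        induction n with
        | zero => simp
        | succ n ih =>
          have e : (u : K) ^ (n + 1) * x * ((u : K) ^ (n + 1))⁻¹ = (u : K) ^ n * ((u : K) * x * (u : K)⁻¹) * ((u : K) ^ n)⁻¹ := by
            rw [pow_succ]; group
          have hi' : (u : K) * x * (u : K)⁻¹ = x ^ i := hi
          rw [e, hi', ← conj_zpow, ih, ← zpow_mul, pow_succ]
      have := h1 (Nat.card (pPrimeCore p H))
      rw [Subgroup.coe_pow]
      exact this
  -- a conjugate of `t` which commutes with `t`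
  obtain ⟨s, hss, hs1, hst, hne⟩ : ∃ s : K, s * s = 1 ∧ s ≠ 1 ∧ t * s = s * t ∧ s ≠ t := by
    by_contra hcon
    push Not at hcon
    have hiso : IsIsolatedInvolution t := by
      refine ⟨orderOf_eq_prime (by rw [pow_two]; exact htt) ht1, fun g hg => ?_⟩
      refine hcon _ ?_ ?_ hg.eq
      · calc g * t * g⁻¹ * (g * t * g⁻¹) = g * (t * t) * g⁻¹ := by group
          _ = 1 := by rw [htt]; group
      · intro h
        apply ht1
        have : t = g⁻¹ * (g * t * g⁻¹) * g := by group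
        rw [this, h]; group
    have hpt : IsPGroup 2 (zpowers t) := IsPGroup.of_card (n := 1) (by rw [Nat.card_zpowers, hiso.1, pow_one])
    obtain ⟨P, hP⟩ := hpt.exists_le_sylow
    have htP : t ∈ P := hP (mem_zpowers t)
    obtain ⟨N, hN, hodd, hcomm⟩ := Cfsg.Agent.S0215.result P t hiso.1 htP
      (fun g hg => Cfsg.Agent.S1180.eq_of_conj_mem_isPGroup t hiso (P : Subgroup K) P.2 htP g hg)
    rcases hN.eq_bot_or_eq_top with h | h
    · have htc : t ∈ center K := by
        rw [mem_center_iff]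
        intro g
        have := hcomm g
        rw [h, mem_bot] at this
        have h1 : t * g * t⁻¹ = g := mul_inv_eq_one.mp this
        rw [mul_inv_eq_iff_eq_mul] at h1
        exact h1.symm
      rw [center_eq_bot hna, mem_bot] at htc
      exact ht1 htc
    · rw [h, card_top] at hodd
      rw [← Nat.not_even_iff_odd] at hodd
      exact hodd (even_iff_two_dvd.2 h2K)
  -- the solvable group `L = ⟨x, t, s⟩`
  have hsol := hT s hss
  set L : Subgroup K := closure ({x, s} : Set K) ⊔ zpowers t with hL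
  have hxL : x ∈ L := mem_sup_left (subset_closure (by simp))
  have hsL : s ∈ L := mem_sup_left (subset_closure (by simp))
  have htL : t ∈ L := mem_sup_right (mem_zpowers t)
  have hLs : Group.IsSolvable L := by
    refine isSolvable_sup_zpowers hsol fun a ha => ?_
    have h1 : (closure ({x, s} : Set K)).map (MulAut.conj t).toMonoidHom ≤ closure ({x, s} : Set K) := by
      rw [MonoidHom.map_closure, closure_le]
      rintro _ ⟨z, hz, rfl⟩
      rcases hz with rfl | rfl
      · change t * z * t⁻¹ ∈ closure ({z, s} : Set K)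
        rw [hti]
        exact zpow_mem (subset_closure (by simp)) i
      · change t * z * t⁻¹ ∈ closure ({x, z} : Set K)
        rw [hst, mul_inv_cancel_right]
        exact subset_closure (by simp)
    exact h1 ⟨a, ha, rfl⟩
  have hNn : (pPrimeCore p L).Normal := Lib.Cores.pPrimeCore_normal p
  set π := QuotientGroup.mk' (pPrimeCore p L) with hπ
  set X : L := ⟨x, hxL⟩ with hX
  -- `u` inverts `x` modulo the core
  have hinv : ∀ (u : K) (hu : u ∈ L), u * u = 1 → u ≠ 1 → π ⟨u, hu⟩ * π X * (π ⟨u, hu⟩)⁻¹ = (π X)⁻¹ := by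
    intro u hu huu hu1
    obtain ⟨k, hk, j, hj⟩ := key L hLs hxL u hu
    have hπk : π k = 1 := (QuotientGroup.eq_one_iff k).2 hk
    have h1 : π ⟨u, hu⟩ * π X * (π ⟨u, hu⟩)⁻¹ = π X ^ j := by
      have h3 : (k * ⟨u, hu⟩) * X * (k * ⟨u, hu⟩)⁻¹ = X ^ j := Subtype.ext hj
      have h4 := congrArg π h3
      rw [map_mul, map_mul, map_mul, map_inv, map_mul, hπk, one_mul, map_zpow] at h4
      exact h4
    have huu' : π ⟨u, hu⟩ * π ⟨u, hu⟩ = 1 := by
      rw [← map_mul]
      have : (⟨u, hu⟩ : L) * ⟨u, hu⟩ = 1 := Subtype.ext huu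
      rw [this, map_one]
    have huinv : (π ⟨u, hu⟩)⁻¹ = π ⟨u, hu⟩ := inv_eq_of_mul_eq_one_left huu'
    -- `j ^ 2 = 1` modulo `p`
    have hXo : orderOf (π X) = p := by
      have h5 : orderOf X = p := by rw [hX, Subgroup.orderOf_mk]; exact hx
      refine orderOf_eq_prime ?_ ?_
      · have h9 : X ^ p = 1 := by
          have h10 := pow_orderOf_eq_one X
          rwa [h5] at h10
        rw [← map_pow, h9, map_one]
      · intro h6
        have h7 : X ∈ pPrimeCore p L := (QuotientGroup.eq_one_iff _).1 h6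
        have h8 := Subgroup.orderOf_dvd_natCard _ h7
        rw [h5] at h8
        exact (Nat.Prime.coprime_iff_not_dvd hp.out).1 (Lib.Cores.pPrimeCore_coprime (G := L) p).symm h8
    have h2 : π X ^ (j * j) = π X := by
      calc π X ^ (j * j) = (π ⟨u, hu⟩ * π X * (π ⟨u, hu⟩)⁻¹) ^ j := by rw [h1, ← zpow_mul]
        _ = π ⟨u, hu⟩ * π X ^ j * (π ⟨u, hu⟩)⁻¹ := conj_zpow
        _ = π ⟨u, hu⟩ * (π ⟨u, hu⟩ * π X * (π ⟨u, hu⟩)⁻¹) * (π ⟨u, hu⟩)⁻¹ := by rw [h1]
        _ = (π ⟨u, hu⟩ * π ⟨u, hu⟩) * π X * ((π ⟨u, hu⟩)⁻¹ * (π ⟨u, hu⟩)⁻¹) := by group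
        _ = π X := by rw [huinv, huu']; group
    have h3 : (p : ℤ) ∣ (j - 1) * (j + 1) := by
      have h4 : π X ^ (j * j - 1) = 1 := by rw [zpow_sub, zpow_one, h2, mul_inv_cancel]
      rw [← hXo]
      have h5 := orderOf_dvd_iff_zpow_eq_one.2 h4
      have e : (j - 1) * (j + 1) = j * j - 1 := by ring
      rwa [e]
    rcases (Nat.prime_iff_prime_int.1 hp.out).dvd_or_dvd h3 with h4 | h4
    · -- `u` centralises `x` modulo the core
      exfalso
      apply hu1
      have h5 : π X ^ j = π X := by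
        have h6 : π X ^ (j - 1) = 1 := orderOf_dvd_iff_zpow_eq_one.1 (by rw [hXo]; exact h4)
        rw [zpow_sub, zpow_one] at h6
        exact mul_inv_eq_one.1 h6
      have h6 : (⟨u, hu⟩ : L) = 1 := by
        refine eq_one_of_core hx hp2 hF hxL (k := 1) (Subtype.ext (by rw [pow_one, pow_two]; exact huu)) ?_
        rw [← QuotientGroup.eq_one_iff]
        have h7 : π ((⟨u, hu⟩ : L)⁻¹ * (X * ⟨u, hu⟩ * X⁻¹)) = 1 := by
          rw [h5] at h1
          have h8 : π ⟨u, hu⟩ * π X = π X * π ⟨u, hu⟩ := mul_inv_eq_iff_eq_mul.1 h1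
          rw [map_mul, map_mul, map_mul, map_inv, map_inv, ← h8]
          group
        exact h7
      exact congrArg Subtype.val h6
    · have h6 : π X ^ (j + 1) = 1 := orderOf_dvd_iff_zpow_eq_one.1 (by rw [hXo]; exact h4)
      rw [h1]
      rw [zpow_add, zpow_one] at h6
      exact eq_inv_of_mul_eq_one_left h6
  have h1 := hinv t htL htt ht1
  have h3 := hinv s hsL hss hs1
  -- `t s` centralises `x` modulo the core
  have h4 : (⟨t, htL⟩ : L) * ⟨s, hsL⟩ = 1 := by
    refine eq_one_of_core hx hp2 hF hxL (k := 1) (Subtype.ext ?_) ?_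
    · rw [pow_one, pow_two]
      change t * s * (t * s) = 1
      calc t * s * (t * s) = t * s * (s * t) := by rw [hst]
        _ = t * (s * s) * t := by group
        _ = 1 := by rw [hss, mul_one, htt]
    · rw [← QuotientGroup.eq_one_iff]
      have h5 : π ((⟨t, htL⟩ * ⟨s, hsL⟩ : L)⁻¹ * (X * (⟨t, htL⟩ * ⟨s, hsL⟩) * X⁻¹)) = 1 := by
        have h6 : π ⟨t, htL⟩ * π ⟨s, hsL⟩ * π X * (π ⟨t, htL⟩ * π ⟨s, hsL⟩)⁻¹ = π X := by
          calc π ⟨t, htL⟩ * π ⟨s, hsL⟩ * π X * (π ⟨t, htL⟩ * π ⟨s, hsL⟩)⁻¹ =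
              π ⟨t, htL⟩ * (π ⟨s, hsL⟩ * π X * (π ⟨s, hsL⟩)⁻¹) * (π ⟨t, htL⟩)⁻¹ := by group
            _ = (π ⟨t, htL⟩ * π X * (π ⟨t, htL⟩)⁻¹)⁻¹ := by rw [h3]; group
            _ = π X := by rw [h1, inv_inv]
        have h8 : π ⟨t, htL⟩ * π ⟨s, hsL⟩ * π X = π X * (π ⟨t, htL⟩ * π ⟨s, hsL⟩) := mul_inv_eq_iff_eq_mul.1 h6
        rw [map_mul, map_mul, map_mul, map_inv, map_inv, map_mul, ← h8]
        group
      exact h5
  apply hne
  have h5 : t * s = 1 := congrArg Subtype.val h4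
  have h6 : s = t⁻¹ := (inv_eq_of_mul_eq_one_right h5).symm
  rw [h6]
  exact inv_eq_of_mul_eq_one_left htt

end Cfsg.Agent.H959.T5
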