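import Mathlib
import Cfsg.Agent.H959.T5.VFour

/-!
# S3854, elements of prime order `p ≥ 5`: more criteria (helper959)

* `not_fix2_num`, `NoTE.of_num` : the V4 trick from Theorem O or from the order of `2` modulo `p`;
* `NoTE.of_vfour` : the V4 trick for all `x`; `NoTE.of_pair` : cyclic Sylow `p`-subgroups, one pair; `blk`;
* `false_of_crow_odd` : groups of Lie type of odd characteristic (`CRow` of S3846 and Gow's theorem);
* `noT_lie` : groups of Lie type of rank at least two, from the rows of S3829 and S3846.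
-/

set_option autoImplicit false
set_option linter.unusedSectionVars false

namespace Cfsg.Agent.H959.T5

open Cfsg Subgroup Cfsg.Agent.H459.Rad Cfsg.Agent.H459.Iface Cfsg.Agent.SignalizersComponents.ComponentExists
open Cfsg.Agent.H301.SY Cfsg.Agent.H959.Rad3

variable {K : Type*} [Group K] [Finite K] {p : ℕ} [hp : Fact p.Prime]

/-- the V4 trick for `TE` -/
theorem false_of_not_fix2 [IsSimpleGroup K] (hna : ¬ IsMulCommutative K) (h2K : 2 ∣ Nat.card K) (hp2 : p ≠ 2)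
    (hcyc : ∀ P : Sylow p K, IsCyclic (P : Subgroup K)) {x : K} (hx : orderOf x = p) (hT : TE x)
    (hF : ¬ FixR 2 (MulAut.conj x)) : False :=
  vfour hna h2K hp2 hcyc hx hF fun _ hy => hT _ ⟨1, by rw [pow_one, pow_two, hy]⟩

/-- **one pair is enough** if the Sylow `p`-subgroups are cyclic -/
theorem NoTE.of_pair (hcyc : ∀ P : Sylow p K, IsCyclic (P : Subgroup K)) {x₀ y₀ : K} (hx₀ : orderOf x₀ = p)
    (hy₀ : ∃ k : ℕ, y₀ ^ 2 ^ k = 1) (hns : ¬ Group.IsSolvable ↥(closure ({x₀, y₀} : Set K))) : NoTE p K := by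
  intro x hx _ hT
  obtain ⟨g, hg⟩ := exists_conj_mem hcyc hx (L := zpowers x₀) (by rw [Nat.card_zpowers, hx₀])
  have ho : orderOf (g * x * g⁻¹) = p := by
    rw [← hx]
    exact orderOf_injective (MulAut.conj g).toMonoidHom (MulAut.conj g).injective x
  have h1 : zpowers (g * x * g⁻¹) = zpowers x₀ := by
    refine Subgroup.eq_of_le_of_card_ge (zpowers_le.2 hg) ?_
    rw [Nat.card_zpowers, Nat.card_zpowers, hx₀, ho]
  apply hns
  refine isSolvable_of_le ?_ (hT.conj g y₀ hy₀)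
  rw [closure_le]
  rintro z (rfl | rfl)
  · have h2 : z ∈ zpowers (g * x * g⁻¹) := by rw [h1]; exact mem_zpowers z
    exact (zpowers_le.2 (subset_closure (by simp))) h2
  · exact subset_closure (by simp)

/-- the V4 trick for all `x` -/
theorem NoTE.of_vfour [IsSimpleGroup K] (hna : ¬ IsMulCommutative K) (h2K : 2 ∣ Nat.card K) (hp2 : p ≠ 2)
    (hcyc : ∀ P : Sylow p K, IsCyclic (P : Subgroup K))
    (h : ∀ x : K, orderOf x = p → RE x → ¬ FixR 2 (MulAut.conj x)) : NoTE p K :=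
  fun x hx hR hT => false_of_not_fix2 hna h2K hp2 hcyc hx hT (h x hx hR)

/-- `x` normalises no non-trivial `2`-subgroup: numerical conditions -/
theorem not_fix2_num (hcyc : ∀ P : Sylow p K, IsCyclic (P : Subgroup K)) (hO : ThO p K) (hp2 : p ≠ 2) {x : K}
    (hx : orderOf x = p) (hR : RE x) (hC : ¬ 2 ∣ Nat.card (centralizer ({x} : Set K)))
    (h : (∀ i : ℕ, 0 < i → 2 ^ i ∣ Nat.card K → ¬ 2 ^ i ≡ 1 [MOD p]) ∨
      (∃ T : Sylow 2 K, ∀ a j n : ℕ,
        Nat.card T = 2 ^ (a + j) → p ∣ 2 ^ a - 1 → 2 ^ j ∣ p - 1 → 0 < n → p ∣ 2 ^ n - 1 → n ≤ a →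
        (∃ W : Subgroup K, W ≤ T ∧ (∀ w ∈ W, ∀ u ∈ (T : Subgroup K), w * u = u * w) ∧ (∀ w ∈ W, w ^ 2 = 1) ∧
          2 ^ n ≤ Nat.card W ^ (2 ^ j)) → False)) : ¬ FixR 2 (MulAut.conj x) := by
  rintro ⟨R, hR0, hR2, hxR⟩
  have hxR' : ∀ a ∈ R, x * a * x⁻¹ ∈ R := hxR
  rcases h with h | ⟨T, h⟩
  · have h1 := centralises_of_card hx Nat.prime_two (Ne.symm hp2) h hR2 hxR'
    have : Fact (Nat.Prime 2) := ⟨Nat.prime_two⟩
    have hnt : Nontrivial R := (Subgroup.nontrivial_iff_ne_bot R).2 hR0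
    obtain ⟨n, hn0, hn⟩ := (IsPGroup.nontrivial_iff_card hR2).1 hnt
    have hle : R ≤ centralizer ({x} : Set K) := by
      intro a ha
      rw [mem_centralizer_iff]
      intro y hy
      rw [Set.mem_singleton_iff.1 hy]
      exact h1 a ha
    apply hC
    refine dvd_trans ?_ (Subgroup.card_dvd_of_le hle)
    rw [hn]
    exact dvd_pow_self 2 hn0.ne'
  · obtain ⟨a, j, n, h3, h4, h5, h6, h7, h8, h9⟩ := hO hcyc 2 Nat.prime_two (Ne.symm hp2) x hx hR hC R hR0 hR2 hxR' T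
    exact h a j n h3 h4 h5 h6 h7 h8 h9

/-- **the V4 trick from numerical conditions** -/
theorem NoTE.of_num [IsSimpleGroup K] (hna : ¬ IsMulCommutative K) (h2K : 2 ∣ Nat.card K) (hp2 : p ≠ 2)
    (hcyc : ∀ P : Sylow p K, IsCyclic (P : Subgroup K)) (hO : ThO p K)
    (hC : ∀ x : K, orderOf x = p → ¬ 2 ∣ Nat.card (centralizer ({x} : Set K)))
    (h : (∀ i : ℕ, 0 < i → 2 ^ i ∣ Nat.card K → ¬ 2 ^ i ≡ 1 [MOD p]) ∨
      (∃ T : Sylow 2 K, ∀ a j n : ℕ,
        Nat.card T = 2 ^ (a + j) → p ∣ 2 ^ a - 1 → 2 ^ j ∣ p - 1 → 0 < n → p ∣ 2 ^ n - 1 → n ≤ a →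
        (∃ W : Subgroup K, W ≤ T ∧ (∀ w ∈ W, ∀ u ∈ (T : Subgroup K), w * u = u * w) ∧ (∀ w ∈ W, w ^ 2 = 1) ∧
          2 ^ n ≤ Nat.card W ^ (2 ^ j)) → False)) : NoTE p K :=
  NoTE.of_vfour hna h2K hp2 hcyc fun x hx hR => not_fix2_num hcyc hO hp2 hx hR (hC x hx) h

/-- **the block lemma** -/
theorem blk {K : Type*} [Group K] [Finite K] [IsSimpleGroup K] (hna : ¬ IsMulCommutative K) {p : ℕ} [hp : Fact p.Prime] :
    Blk p K := by
  intro hcyc x y hx hy h
  obtain ⟨P⟩ : Nonempty (Sylow p K) := inferInstance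
  have h1 := Cfsg.Agent.H509.CycBlock.order_dvd_of_solvable_pairs hna P (hcyc P) hx hy h
  have h2 : (centralizer ({x} : Set K)).relIndex (normalizer ((zpowers x : Subgroup K) : Set K)) ∣ p - 1 := by
    have h3 : centralizer ({x} : Set K) = centralizer ((zpowers x : Subgroup K) : Set K) := by
      rw [zpowers_eq_closure, centralizer_closure]
    have h4 : Nat.card (MulAut (zpowers x)) = p - 1 := by
      rw [IsCyclic.card_mulAut, Nat.card_zpowers, hx, Nat.totient_prime hp.out]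
    rw [h3, relIndex, ← normalizerMonoidHom_ker, index_ker, ← h4]
    exact Subgroup.card_subgroup_dvd_card _
  obtain ⟨k, hk⟩ := h2
  rw [hk, pow_mul, h1, one_pow]

/-- **groups of Lie type of odd characteristic** `r ≠ p` -/
theorem false_of_crow_odd [IsSimpleGroup K] (hna : ¬ IsMulCommutative K) (h2K : 2 ∣ Nat.card K) {r : ℕ}
    [hr : Fact r.Prime] (hr2 : r ≠ 2) (hp2 : p ≠ 2) (hg : Gw r K) {x : K} (hx : orderOf x = p) (hT : TE x)
    (hcyc : ∀ P : Sylow p K, IsCyclic (P : Subgroup K)) (hF : ¬ FixR r (MulAut.conj x)) (h : M0 x ∨ Zc r p K) :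
    False := by
  rcases h with h | hZ
  · exact m0_false hna h2K hx hT h
  have h2p : 2 ∣ p - 1 := by
    rcases hp.out.even_sub_one hp2 with ⟨k, hk⟩
    omega
  obtain ⟨z, hz1, hzr, hzc⟩ := hZ 2 Nat.prime_two h2p (Ne.symm hr2)
  have : Fact (Nat.Prime 2) := ⟨Nat.prime_two⟩
  obtain ⟨y, hy⟩ := exists_prime_orderOf_dvd_card' 2 h2K
  have hy1 : y ≠ 1 := by
    rintro rfl
    rw [orderOf_one] at hy
    omega
  obtain ⟨g, k, h2⟩ := hg x z y (not_dvd_of_not_fixR hF) hzr hy1 (by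
    rw [hy]
    intro h3
    exact hr2 ((Nat.prime_dvd_prime_iff_eq hr.out Nat.prime_two).1 h3))
  have h3 := hT (g⁻¹ * y * g⁻¹⁻¹) ⟨1, by
    rw [pow_one, conj_pow, ← hy, pow_orderOf_eq_one, mul_one, mul_inv_cancel]⟩
  have ho : orderOf (g⁻¹ * y * g⁻¹⁻¹) = 2 := by
    rw [← hy]
    exact orderOf_injective (MulAut.conj g⁻¹).toMonoidHom (MulAut.conj g⁻¹).injective y
  apply not_coprime_of_solvable hcyc hx Nat.prime_two (Ne.symm hp2) ho h3
  have h4 : x⁻¹ * (g⁻¹ * y * g⁻¹⁻¹) = (g⁻¹ * k) * z * (g⁻¹ * k)⁻¹ := by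
    rw [← h2]
    group
  have h5 : orderOf ((g⁻¹ * k) * z * (g⁻¹ * k)⁻¹) = orderOf z :=
    orderOf_injective (MulAut.conj (g⁻¹ * k)).toMonoidHom (MulAut.conj (g⁻¹ * k)).injective z
  rw [h4, h5]
  exact hzc

/-- **groups of Lie type of rank at least two** : `hN` is `nf_of_isBig`, `hc` is `cyc_of_isBig`, `hrow` the rows of
S3846 -/
theorem noT_lie [IsSimpleGroup K] (hna : ¬ IsMulCommutative K) (h2K : 2 ∣ Nat.card K) {r : ℕ}
    [hr : Fact r.Prime] (hp2 : p ≠ 2) (hN : ∀ x : MulAut K, orderOf x = p → RC x → FixR r x → False)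
    (hc : ∀ x : MulAut K, orderOf x = p → RC x → p ≠ r ∧ Cfsg.Agent.H459.Iface.Cyc p x) (hg : r ≠ 2 → Gw r K)
    (hrow : r ≠ 2 → p ≠ r → CRow r p K) : NoT p K := by
  intro x hx hR hT
  obtain ⟨hpr, ⟨y, rfl⟩, hcyc⟩ := hc x hx hR
  have hZ := center_eq_bot hna
  have hy : orderOf y = p := by
    rw [← hx]
    exact (orderOf_injective (MulAut.conj : K →* MulAut K) (conj_injective hZ) y).symm
  have hF : ¬ FixR r (MulAut.conj y) := hN _ hx hR
  have hTE : TE y := TE.of_t2 hZ hT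
  by_cases hr2 : r = 2
  · subst hr2
    exact false_of_not_fix2 hna h2K hp2 hcyc hy hTE hF
  · rcases hrow hr2 hpr y hy hR hcyc with h | h
    · exact hF h
    · exact false_of_crow_odd hna h2K hr2 hp2 (hg hr2) hy hTE hcyc hF h

end Cfsg.Agent.H959.T5
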