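import Mathlib
import Cfsg.Agent.H301.SY.Tv
import Cfsg.Agent.H959.T5.Tools

/-!
# S3854, elements of prime order `p ≥ 5`: transvections (helper959)

* `tv_of_te` : `TE x` implies `Tv p x` (`H301.SY.Tv`), `p ≥ 5`;
* `NoTE.of_noT` : `H301.SY.NoT p K` (no `x` with `RC (conj x)` and `Tv p x`) implies `NoTE p K`;
  with `H301.SY.noT_of_sylow` etc.
-/

set_option autoImplicit false
set_option linter.unusedSectionVars false

namespace Cfsg.Agent.H959.T5

open Cfsg Subgroup Cfsg.Agent.H459.Rad Cfsg.Agent.H459.Iface Cfsg.Agent.SignalizersComponents.ComponentExists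
open Cfsg.Agent.H301.SY Cfsg.Agent.H839.Rad
open Matrix (SpecialLinearGroup)

variable {K : Type*} [Group K] {p : ℕ}

/-- a matrix of order four -/
def jm (F : Type*) [Field F] : SpecialLinearGroup (Fin 2) F :=
  ⟨!![0, 1; -1, 0], by simp [Matrix.det_fin_two]⟩

theorem jm_pow (F : Type*) [Field F] : (jm F) ^ 4 = 1 := by
  have h : (jm F) ^ 2 = -1 := by
    apply Subtype.ext
    rw [pow_two]
    change !![(0 : F), 1; -1, 0] * !![(0 : F), 1; -1, 0] = _
    rw [Matrix.mul_fin_two]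
    ext i j
    fin_cases i <;> fin_cases j <;> simp
  have : (jm F) ^ 4 = ((jm F) ^ 2) ^ 2 := by rw [← pow_mul]
  rw [this, h]
  simp

/-- **`Tv` from `TE`** -/
theorem tv_of_te [Finite K] [hp : Fact p.Prime] (hp5 : 5 ≤ p) {x : K} (hT : TE x) : Tv p x := by
  intro w w₁ q j k hw hw₁ hww hne hj hk hxw hxw₁ hqw₁ hqw
  have hwp : w ^ p = 1 := hw ▸ pow_orderOf_eq_one w
  have hw₁p : w₁ ^ p = 1 := hw₁ ▸ pow_orderOf_eq_one w₁
  obtain ⟨h, hh⟩ := exists_act hw hw₁ hww hj hk hxw hxw₁ hqw₁ hqw (jm (ZMod p))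
  obtain ⟨m, hm, l, hl⟩ := exists_part Nat.prime_two h 2
  have hjm : (jm (ZMod p)) ^ m = jm (ZMod p) := by
    have h4 : m ≡ 1 [MOD orderOf (jm (ZMod p))] := hm.of_dvd (orderOf_dvd_of_pow_eq_one (jm_pow (ZMod p)))
    have h5 := pow_eq_pow_iff_modEq.2 h4
    rw [h5, pow_one]
  have hy : Act (p := p) w w₁ (h ^ m) (jm (ZMod p)) := by
    have h1 := Act.pow hwp hw₁p hww hh m
    rwa [hjm] at h1
  refine not_solvable_of_act hp5 hw hw₁ hww hne hj hxw hxw₁ hy ?_ (hT (h ^ m) ⟨l, by rw [← hl, pow_orderOf_eq_one]⟩)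
  simp [jm]

/-- no `RC` elements with `Tv` -/
theorem NoTE.of_noT [Finite K] [IsSimpleGroup K] [Fact p.Prime] (hp5 : 5 ≤ p) (h : Cfsg.Agent.H301.SY.NoT p K) :
    NoTE p K := fun x hx hR hT => h x hx (RC.of_re hR) (tv_of_te hp5 hT)

end Cfsg.Agent.H959.T5
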