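import Mathlib
import Cfsg.Agent.H459.NonFix
import Cfsg.Agent.H621.SY.PslRow
import Cfsg.Agent.H387.SyPsp
import Cfsg.Agent.H597.SYPsuRow
import Cfsg.Agent.H62.SYOrth
import Cfsg.Agent.H491.SY.Minus
import Cfsg.Agent.H941.SY.RowsG2F4
import Cfsg.Agent.H941.SY.Rows
import Cfsg.Agent.H120.Zc.E78
import Cfsg.Agent.H306.SY.TD4Row
import Cfsg.Agent.H333.HallHig
import Cfsg.Agent.H959.T5.Tools

/-!
# The rows `CRow r p K` of S3846 for all groups of Lie type of rank at least two (helper959, for S3854)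
-/

set_option autoImplicit false
set_option linter.unusedSectionVars false

namespace Cfsg.Agent.H959.T5

open Cfsg Subgroup Cfsg.Agent.H301.SY

theorem crow_of_isBig {K : Type*} [Group K] [Finite K] [IsSimpleGroup K] {r p : ℕ} [Fact r.Prime] [Fact p.Prime]
    (hp : 5 ≤ p) (hpr : p ≠ r) (hB : Cfsg.Agent.H459.NonFix.IsBig r K) : CRow r p K := by
  have hh : HH := Cfsg.Agent.H333.HallHig.hh
  rcases hB with h | h | h | h | h | h | h | h
  · obtain ⟨F, _, _, _, n, hn, e⟩ := h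
    exact Cfsg.Agent.H621.SYPsl.crow_psl hh hn e hp hpr
  · exact Cfsg.Agent.H387.SyPsp.crow_psp h hp hpr
  · obtain ⟨F, _, _, _, n, q, hF, hn, e⟩ := h
    exact Cfsg.Agent.H597.SYPsu.crow_psu hh hF (by omega) e hp hpr
  · exact Cfsg.Agent.H62.SYOrth.crow_omega_odd h hp hpr
  · exact Cfsg.Agent.H62.SYOrth.crow_omega_plus h hp hpr
  · exact Cfsg.Agent.H491.SY.crow_omega_minus hh h hp hpr
  · obtain ⟨F, _, _, _, h⟩ := h
    rcases h with ⟨h3, e⟩ | e | e | e | e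
    · exact Cfsg.Agent.H941.SY.crow_g2 hh h3 e hp hpr
    · exact Cfsg.Agent.H941.SY.crow_f4 hh e hp hpr
    · exact Cfsg.Agent.H941.SY.crow_e6 e hp hpr
    · exact Cfsg.Agent.H120.ZcE.crow_e7 e hp hpr
    · exact Cfsg.Agent.H120.ZcE.crow_e8 e hp hpr
  · obtain ⟨F, _, _, _, q, hq, ⟨hF, e⟩ | ⟨hF, e⟩⟩ := h
    · exact Cfsg.Agent.H941.SY.crow_tE6 hF e hp hpr
    · exact Cfsg.Agent.H306.SY.crow_tD4 hh hF e hp hpr

end Cfsg.Agent.H959.T5
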