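import Mathlib
import Cfsg.Agent.H959.T5.Crow
import Cfsg.Agent.H301.SY.Inputs
import Cfsg.Agent.H459.Assemble
import Cfsg.Agent.H823.NfTwF

/-!
# S3854, elements of prime order `p ≥ 5`: groups of Lie type of rank at least two, `²F₄(q)` (helper959)
-/

set_option autoImplicit false
set_option linter.unusedSectionVars false

namespace Cfsg.Agent.H959.T5.Asm

open Cfsg Subgroup Cfsg.Agent.H459.Rad Cfsg.Agent.H459.Iface Cfsg.Agent.H459.NonFix Cfsg.Agent.H301.SY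
open Cfsg.Agent.H959.Rad3

universe u

variable {K : Type u} [Group K] [Finite K] [IsSimpleGroup K] {p : ℕ} [hp : Fact p.Prime]

/-- the groups of Lie type of rank at least two -/
theorem noT_big (hna : ¬ IsMulCommutative K) (h2K : 2 ∣ Nat.card K) (hp5 : 5 ≤ p) {r : ℕ} (hr : r.Prime)
    (hB : IsBig r K) : Cfsg.Agent.H959.T5.NoT p K := by
  have : Fact r.Prime := ⟨hr⟩
  refine Cfsg.Agent.H959.T5.noT_lie (r := r) hna h2K (by omega) (Cfsg.Agent.H459.NonFixLie.nf_of_isBig hr hB hp.out hp5)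
    (fun x hx hR => Cfsg.Agent.H459.Assemble.cyc_of_isBig hr hp.out hp5 hB hx hR) (fun _ => ?_)
    (fun _ hpr => Cfsg.Agent.H959.T5.crow_of_isBig hp5 hpr hB)
  exact Cfsg.Agent.H301.SY.gw hr (Cfsg.Agent.H459.NonFixLie.isLieTypeChar_of_isBig hB)

/-- the groups `²F₄(q)` -/
theorem noT_2f4 (hna : ¬ IsMulCommutative K) (h2K : 2 ∣ Nat.card K) (hp5 : 5 ≤ p) (h : Lie.Iso2F4 K)
    (hL : IsLieTypeChar 2 K) : Cfsg.Agent.H959.T5.NoT p K := by
  have : Fact (Nat.Prime 2) := ⟨Nat.prime_two⟩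
  refine Cfsg.Agent.H959.T5.noT_lie (r := 2) hna h2K (by omega) (Cfsg.Agent.H823.NfTwF.nf_twF4 h hp5)
    (fun x hx hR => ⟨by omega, ?_⟩) (fun h2 => absurd rfl h2) (fun h2 _ => absurd rfl h2)
  have h2 : ClAt 2 p K := Cfsg.Agent.H459.Assemble.of_exc Nat.prime_two hp.out hp5 hL
    (Cfsg.Agent.H496.TwFRad.Row.excAt_ree2f4 h hp5)
  rcases h2 x hx hR with h3 | h3
  · exact (Cfsg.Agent.H823.NfTwF.nf_twF4 h hp5 x hx hR h3).elim
  · exact h3

end Cfsg.Agent.H959.T5.Asm
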