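import Mathlib
import Cfsg.Agent.H959.T5.Tools
import Cfsg.Agent.H63.SYThmO
import Cfsg.Agent.H498.SporOut
import Cfsg.Agent.H839.Rad.RowTool
import Cfsg.Agent.H567.NT.MEleven
import Cfsg.Agent.H621.TE.Mathieu
import Cfsg.Agent.H305.TEJ
import Cfsg.Agent.H196.T5.J4
import Cfsg.Agent.H352.NoTECoOne
import Cfsg.Agent.H216.T5.Conway
import Cfsg.Agent.H54.TE.SuzFi22
import Cfsg.Agent.H329.T5He
import Cfsg.Agent.H196.T5.Ru
import Cfsg.Agent.H191.T5.LyON
import Cfsg.Agent.H837.NoTEFi23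
import Cfsg.Agent.H841.SY.TFi24
import Cfsg.Agent.H478.T5.HN
import Cfsg.Agent.H478.T5.Th
import Cfsg.Agent.H478.T5.B
import Cfsg.Agent.H196.T5.M

/-!
# S3854, elements of prime order `p ≥ 5`: the sporadic groups (helper959)
-/

set_option autoImplicit false
set_option linter.unusedSectionVars false

namespace Cfsg.Agent.H959.T5.Asm

open Cfsg Subgroup Cfsg.Agent.H459.Rad Cfsg.Agent.H459.Iface Cfsg.Agent.H301.SY
open Cfsg.Agent.H959.Rad3

universe u

variable {K : Type u} [Group K] [Finite K] [IsSimpleGroup K] {p : ℕ} [hp : Fact p.Prime]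

/-- Theorem O -/
theorem thO (hp5 : 5 ≤ p) : ThO p K := fun hcyc _ ht htp _ hx hR hC _ hR0 hRt hxR T =>
  haveI := Fact.mk ht
  Cfsg.Agent.H63.SYThmO.thmO hp5 htp hcyc hx hR hC hR0 hRt hxR T

/-- the sporadic groups -/
theorem noT_spor (hna : ¬ IsMulCommutative K) (hp5 : 5 ≤ p) (h : IsSporadicGroup K) :
    Cfsg.Agent.H959.T5.NoT p K := by
  have h0 : (MulAut.conj : K →* MulAut K).range.index ≠ 0 := by
    have : Finite (MulAut K) := Finite.of_injective (fun f : MulAut K => (f : K → K)) fun f g h => by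
      ext x
      exact congrFun h x
    exact index_ne_zero_of_finite
  refine Cfsg.Agent.H959.T5.NoT.of_noTE hna (Cfsg.Agent.H839.Rad.inner_of_index hp.out (by omega)
    (Cfsg.Agent.H498.SporOut.index_le_two h) h0) ?_
  have hb : Blk p K := Cfsg.Agent.H959.T5.blk hna
  have hO : ThO p K := thO hp5
  rcases h with h | h | h | h | h | h | h | h | h | h | h | h | h | h | h | h | h | h |
      h | h | h | h | h | h | h | h
  · exact H567.NT.noTE_m11 h hp5 hb hO
  · exact H621.TEMathieu.noTE_m12 h hp5 hb hO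
  · exact H621.TEMathieu.noTE_m22 h hp5 hb hO
  · exact H621.TEMathieu.noTE_m23 h hp5 hb hO
  · exact H621.TEMathieu.noTE_m24 h hp5 hb hO
  · exact H305.TEJ.noTE_j1 h hp5 hb hO
  · exact H305.TEJ.noTE_j2 h hp5 hb hO
  · exact H305.TEJ.noTE_j3 h hp5 hb hO
  · exact H196.T5.J4.noTE_j4 h hp5 hb hO
  · exact H352.NoTECoOne.noTE_co1 h hp5 hb hO
  · exact H216.TFive.noTE_co2 h hp5
  · exact H216.TFive.noTE_co3 h hp5
  · exact H216.TFive.noTE_mcl h hp5
  · exact H216.TFive.noTE_hs h hp5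
  · exact H54.TE.noTE_suz h hp5 hb hO
  · exact H329.T5He.noTE_he h hp5 hb hO
  · exact H196.T5.Ru.noTE_ru h hp5 hb hO
  · exact H191.T5.noTE_on h hp5 hb hO
  · exact H191.T5.noTE_ly h hp5 hb hO
  · exact H54.TE.noTE_fi22 h hp5 hb hO
  · exact H837.NoTEFi23.noTE_fi23 h hp5 hb hO
  · exact H841.SY.noTE_fi24 h hp5 hb hO
  · exact H478.T5.noTE_hn h hp5 hb hO
  · exact H478.T5.noTE_th h hp5 hb hO
  · exact H478.T5.noTE_b h hp5 hb hO
  · exact H196.T5.M.noTE_m h hp5 hb hO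

end Cfsg.Agent.H959.T5.Asm
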