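import Mathlib
import Cfsg.Agent.H959.T5.LieBig
import Cfsg.Agent.H959.T5.Spor
import Cfsg.Agent.H559.T5.Alt
import Cfsg.Agent.H82.TfPsl2
import Cfsg.Agent.H248.T5.Psu3
import Cfsg.Agent.H196.T5.Sz
import Cfsg.Agent.H196.T5.Ree
import Cfsg.Agent.H578.TitsT

/-!
# S3854, elements of prime order `p ≥ 5`: all known simple groups (helper959)

`noT_known` : `NoT p K` for every known non-abelian simple group `K`.
-/

set_option autoImplicit false
set_option linter.unusedSectionVars false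

namespace Cfsg.Agent.H959.T5.Asm

open Cfsg Subgroup Cfsg.Agent.H459.Rad Cfsg.Agent.H459.Iface Cfsg.Agent.H459.NonFix Cfsg.Agent.H301.SY
open Cfsg.Agent.H959.Rad3

universe u

variable {K : Type u} [Group K] [Finite K] [IsSimpleGroup K] {p : ℕ} [hp : Fact p.Prime]

/-- **The rows for elements of prime order `p ≥ 5`.** -/
theorem noT_known (hna : ¬ IsMulCommutative K) (h2K : 2 ∣ Nat.card K) (hp5 : 5 ≤ p) (hK : IsKnownSimple' K) :
    Cfsg.Agent.H959.T5.NoT p K := by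
  rcases Cfsg.Agent.OddHalf.Known.classify' hna hK with h | ⟨r, hr, h⟩ | h | h
  · obtain ⟨n, hn, ⟨e⟩⟩ := h
    exact (H559.T5.noT_alt hn hp5).congr e
  · have : Fact r.Prime := ⟨hr⟩
    rcases Cfsg.Agent.H459.Assemble.isLie_cases h with h1 | h1 | h1 | h1 | h1 | h1
    · exact noT_big hna h2K hp5 hr h1
    · obtain ⟨F, _, _, ⟨e⟩⟩ := h1
      exact H82.TfPsl2.noT_psl2 ⟨e⟩ hp5
    · obtain ⟨F, _, _, q, hF, ⟨e⟩⟩ := h1
      exact H248.T5.noT_psu3 hF ⟨e⟩ hp5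
    · exact H196.T5.Sz.noT_sz h1 hp5
    · obtain ⟨rfl, h1⟩ := h1
      exact noT_2f4 hna h2K hp5 h1 h
    · have h2 : IsLieTypeChar 3 K := Or.inr (Or.inr (Or.inr (Or.inr (Or.inr (Or.inr (Or.inr (Or.inr (Or.inr
        (Or.inr ⟨rfl, h1⟩)))))))))
      exact H196.T5.Ree.noT_ree h1 hp5 (Cfsg.Agent.H301.SY.gw Nat.prime_three h2)
  · exact H578.TitsT.noT_tits h hp5
  · exact noT_spor hna hp5 h

end Cfsg.Agent.H959.T5.Asm
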